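import Cfsg.Agent.H483.Rad23.Base
import Cfsg.Prelude.Def_KGroupFacts
import Cfsg.Agent.OddHalf.Small.G23
import Cfsg.Agent.ChevalleyStructure.GraphG2
import Cfsg.Agent.S2121
import Cfsg.Agent.Lib.PackAll
import Cfsg.Agent.FastGrp
import Cfsg.Agent.Prune
set_option linter.all false

section
prune_inst 0x7ffdfdfffff8fffeffff7e7ffefddffff9feffffffdffbfbfffdf7ffafdf6b6ffbf5fbafffef5affaef6f2be32f87bd3fffffeffeffffd7ffffdfff47fffffdfffffbf8d71ffbcbe1ffc6ffffbf9ffee7f3fffffffffffffffffffffffffffffffffffffffff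

-- part: H96/Rad2/Tool
section
set_option linter.all false
open scoped Cfsg.Agent.FastGrp

/-!
# Tools for the sporadic rows of order two (helper96, for S3832, S4336)
-/

set_option autoImplicit false

namespace Cfsg.Agent.H96.Rad2

open Subgroup Cfsg.Agent.H459.Rad Cfsg.Agent.H459.Iface Cfsg.Agent.H483.Rad23

section

variable {K : Type*} [Group K]

/-- `TT` for a conjugate of an inner automorphism -/
theorem tt_conj {x : K} (h : TT (MulAut.conj x)) (g : K) : TT (MulAut.conj (g * x * g⁻¹)) := by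
  have h1 := TT.tr (MulAut.conj g) h
  have h2 : H459.Rad.tr (MulAut.conj g) (MulAut.conj x) = MulAut.conj (g * x * g⁻¹) := by
    ext k
    rw [tr_apply, MulAut.conj_apply, MulAut.conj_apply, MulAut.conj_apply, MulAut.conj_symm_apply]
    group
  rwa [h2] at h1

theorem tt_isConj {x y : K} (h : TT (MulAut.conj x)) (hxy : IsConj x y) : TT (MulAut.conj y) := by
  obtain ⟨c, rfl⟩ := isConj_iff.1 hxy
  exact tt_conj h c

variable [Finite K]

/-- **an involution inverting an element of prime order at least five** -/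
theorem false_of_dihedral (hc : center K = ⊥) {s t : K} (h : TT (MulAut.conj s)) (hs : s * s = 1) (ht : t * t = 1)
    {l : ℕ} (hl : l.Prime) (h5 : 5 ≤ l) (h1 : (s * t) ^ l = 1) (h2 : s * t ≠ 1) : False := by
  have : Fact l.Prime := ⟨hl⟩
  have ho : orderOf (s * t) = l := orderOf_eq_prime h1 h2
  refine h.no_inv hc hl h5 ho ?_
  have hs' : s⁻¹ = s := inv_eq_of_mul_eq_one_right hs
  have ht' : t⁻¹ = t := inv_eq_of_mul_eq_one_right ht
  rw [MulAut.conj_apply, mul_inv_rev, hs', ht']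
  calc s * (s * t) * s = (s * s) * t * s := by group
    _ = t * s := by rw [hs, one_mul]

/-- one class of involutions -/
theorem false_of_oneClass (hc : center K = ⊥) (hcl : ∀ x y : K, orderOf x = 2 → orderOf y = 2 → IsConj x y)
    {s t : K} (hs : s * s = 1) (hs1 : s ≠ 1) (ht : t * t = 1) {l : ℕ} (hl : l.Prime) (h5 : 5 ≤ l)
    (h1 : (s * t) ^ l = 1) (h2 : s * t ≠ 1) {x : K} (hx : orderOf x = 2) (h : TT (MulAut.conj x)) : False :=
  false_of_dihedral hc (tt_isConj h (hcl x s hx (orderOf_eq_prime (by rw [pow_two, hs]) hs1))) hs ht hl h5 h1 h2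

/-- a commutator of order divisible by a prime at least five, seen in an image -/
theorem false_of_map (hc : center K = ⊥) {H : Type*} [Group H] (f : K →* H) {x : K} (h : TT (MulAut.conj x)) (g : K)
    {l : ℕ} (hl : l.Prime) (h5 : 5 ≤ l) (ho : l ∣ orderOf (f (x * g * x⁻¹ * g⁻¹))) : False :=
  h.not_dvd hc hl h5 g (ho.trans (orderOf_map_dvd f _))

end

/-- trivial outer automorphism group: all automorphisms are inner -/
theorem inner_of_card {X : Type*} [Group X] [Finite X] (h : Nat.card (Cfsg.Out X) = 1) (x : MulAut X) :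
    ∃ a : X, x = MulAut.conj a := by
  have hs : Subsingleton (Cfsg.Out X) := (Nat.card_eq_one_iff_unique.1 h).1
  have h3 : (QuotientGroup.mk x : Cfsg.Out X) = 1 := Subsingleton.elim _ _
  obtain ⟨a, ha⟩ := (QuotientGroup.eq_one_iff x).1 h3
  exact ⟨a, ha.symm⟩

/-- **the row of a simple group all of whose automorphisms are inner** -/
theorem row_of_inn {K X : Type*} [Group K] [Finite K] [IsSimpleGroup K] [Group X] [Finite X] (e : K ≃* X)
    (h : ∀ x : MulAut X, ∃ a : X, x = MulAut.conj a)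
    (hb : center X = ⊥ → ∀ a : X, orderOf a = 2 → RC (MulAut.conj a) → PS 4 (MulAut.conj a) → TT (MulAut.conj a) →
      False) : Row23 2 K := by
  refine Row23.congr e ?_
  have hnt : Nontrivial X := e.symm.toEquiv.nontrivial
  have hs : IsSimpleGroup X := IsSimpleGroup.isSimpleGroup_of_surjective e.toMonoidHom e.surjective
  intro x hx hR hP hT
  obtain ⟨a, rfl⟩ := h x
  rcases (inferInstance : (center X).Normal).eq_bot_or_eq_top with hZ | hZ
  · exact hb hZ a (by rwa [orderOf_injective _ (H839.Rad.conj_injective hZ)] at hx) hR hP hT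
  · have h1 : (MulAut.conj a : MulAut X) = 1 := by
      ext y
      have h2 : a ∈ center X := hZ ▸ mem_top a
      rw [MulAut.conj_apply, ← mem_center_iff.1 h2 y, mul_inv_cancel_right]
      rfl
    rw [h1, orderOf_one] at hx
    norm_num at hx

end Cfsg.Agent.H96.Rad2
end

-- part: H96/Rad2/GTwoGraph
section
prune_inst 0x2000000020001000000000102200002010000000000000002080000008410000000000000210010080c000806040c000001001000000000000008000000000000403002000341c00300000400000000000000000000000000000000000000000000000000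
set_option linter.all false
open scoped Cfsg.Agent.FastGrp

/-!
# The graph automorphism of `G₂(3)` on words (helper96, for S3832, S4336)

`gam` : the graph automorphism on words; `γ`, `γ_ev`, `γ_γ`, `γ_outer`, `center_Gp`, `card_out`.
-/

set_option autoImplicit false
set_option Elab.async false
set_option maxRecDepth 100000

namespace Cfsg.Agent.H96.Rad2.G23

open scoped Pointwise
open Subgroup Matrix Cfsg.Lie Cfsg.Agent.H459.Rad Cfsg.Agent.H483.Rad23
open Cfsg.Agent.GTwoThree.Model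
open Cfsg.Agent.OddHalf.Small.G23Data Cfsg.Agent.OddHalf.Small.G23Check Cfsg.Agent.OddHalf.Small.G23
open Cfsg.Agent.ChevalleyStructure Cfsg.Agent.ChevalleyStructure.Elts Cfsg.Agent.S1042
  Cfsg.Agent.ChevalleyStructure.NConj Cfsg.Agent.ChevalleyStructure.BNChev
  Cfsg.Agent.Schreier.ChevLocal
  Cfsg.Agent.H70.AutFix Cfsg.Agent.H70.ChevTab Cfsg.Agent.H70.ChevFix Cfsg.Agent.H70.ChevField
  Cfsg.Agent.H70.PermFix Cfsg.Agent.H70.OutCount Cfsg.Agent.H69.OutGF

/-! ### The graph automorphism is outer -/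

theorem perm_of (α : MulAut ↥(chevG2.group (ZMod 3)))
    (hα : ∀ (g : ↥(chevG2.group (ZMod 3))) (r : ℕ) (t : ZMod 3), r < 12 →
      ((g : GL chevG2.Idx (ZMod 3)) : Matrix _ _ (ZMod 3)) = chevG2.x (ZMod 3) r t →
        ((α g : GL chevG2.Idx (ZMod 3)) : Matrix _ _ (ZMod 3)) =
          chevG2.x (ZMod 3) ([2, 3, 0, 1, 5, 4, 7, 6, 10, 11, 8, 9].getD r 0)
            (t ^ [1, 1, 3, 3, 3, 1, 1, 3, 3, 3, 1, 1].getD r 0)) : Perm chevG2 (ZMod 3) α flip2 := by
  have h0 : (flip2 (0 : Fin 2) : ℕ) = 1 := rfl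
  have h1 : (flip2 (1 : Fin 2) : ℕ) = 0 := rfl
  obtain ⟨t0, t1, t2, t3⟩ := tab_G2
  have ha : ∀ t, α (xe hG2 7 t) = xe hG2 6 (t ^ 3) := fun t =>
    eq_xe hG2 (hα (xe hG2 7 t) 7 t (by norm_num) (coe_coe_xe hG2 7 t))
  have hb : ∀ t, α (xe hG2 6 t) = xe hG2 7 (t ^ 1) := fun t =>
    eq_xe hG2 (hα (xe hG2 6 t) 6 t (by norm_num) (coe_coe_xe hG2 6 t))
  have hma : ∀ t, α (xe hG2 4 t) = xe hG2 5 (t ^ 3) := fun t =>
    eq_xe hG2 (hα (xe hG2 4 t) 4 t (by norm_num) (coe_coe_xe hG2 4 t))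
  have hmb : ∀ t, α (xe hG2 5 t) = xe hG2 4 (t ^ 1) := fun t =>
    eq_xe hG2 (hα (xe hG2 5 t) 5 t (by norm_num) (coe_coe_xe hG2 5 t))
  have hcube : Function.Surjective (fun t : ZMod 3 => t ^ 3) := by decide
  have hone : Function.Surjective (fun t : ZMod 3 => t ^ 1) := by decide
  have hcase : ∀ j : Fin 2, j = 0 ∨ j = 1 := by decide
  refine ⟨fun i => ?_, fun i => ?_⟩
  · rcases hcase i with rfl | rfl
    · rw [h0]
      show α • XX chevG2 (ZMod 3) (chevG2.simple 0) = _
      rw [t0, t1]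
      exact smul_XX hG2 (φ := α) hcube ha
    · rw [h1]
      show α • XX chevG2 (ZMod 3) (chevG2.simple 1) = _
      rw [t0, t1]
      exact smul_XX hG2 (φ := α) hone hb
  · rcases hcase i with rfl | rfl
    · rw [h0]
      show α • XX chevG2 (ZMod 3) (chevG2.neg (chevG2.simple 0)) = _
      rw [t0, t1, t2, t3]
      exact smul_XX hG2 (φ := α) hcube hma
    · rw [h1]
      show α • XX chevG2 (ZMod 3) (chevG2.neg (chevG2.simple 1)) = _
      rw [t0, t1, t2, t3]
      exact smul_XX hG2 (φ := α) hone hmb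

/-- an automorphism flipping the diagram is outer -/
theorem outer_of (α : MulAut ↥(chevG2.group (ZMod 3))) (hp : Perm chevG2 (ZMod 3) α flip2)
    (g : ↥(chevG2.group (ZMod 3))) : α ≠ MulAut.conj g := by
  rintro rfl
  have h1 : g ∈ HH chevG2 (ZMod 3) := by
    rw [← normalizer_inf hG2, Subgroup.mem_inf, mem_normalizer_iff_smul, mem_normalizer_iff_smul]
    exact ⟨Perm.smul_UU hG2 hp, Perm.smul_VN hG2 hp⟩
  have h2 : Perm chevG2 (ZMod 3) (MulAut.conj g :) 1 :=
    ⟨fun i => conj_XX hG2 h1 (simple_lt hG2 i.2), fun i => conj_XX hG2 h1 (neg_simple_lt hG2 i.2)⟩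
  exact flip2_ne (Perm.unique hG2 hp h2)

/-! ### The graph automorphism on words -/

/-- images of the letters -/
def sgl : List ℕ := [4, 5, 6, 7, 0, 1, 2, 3, 10, 11, 8, 9, 14, 15, 12, 13, 20, 21, 22, 23, 16, 17, 18, 19]

/-- image of a letter -/
def sg (k : ℕ) : ℕ := sgl.getD k k

/-- image of a word -/
def gam (w : List ℕ) : List ℕ := w.map sg

theorem y_val {k : ℕ} (hk : k < 24) : ((y k : GL I14 (ZMod 3)) : Matrix I14 I14 (ZMod 3)) =
    chevG2.x (ZMod 3) (k / 2) ((k % 2 + 1 : ℕ) : ZMod 3) := by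
  have h1 : wx (k / 2) (k % 2 + 1) = [k] := by
    unfold wx
    rw [if_neg (by omega)]
    congr 1
    omega
  have hk : k / 2 < 12 := by omega
  have h2 := θ_x ⟨k / 2, hk⟩ ⟨k % 2 + 1, by omega⟩
  change ((θ (ev X (wx (k / 2) (k % 2 + 1))) : GL I14 (ZMod 3)) : Matrix I14 I14 (ZMod 3)) = _ at h2
  rw [h1, ev_cons, ev_nil, mul_one] at h2
  refine h2.trans ?_
  unfold ChevalleyDatum.x
  rw [dif_pos (show k / 2 < chevG2.nroots from hk)]
  rfl

theorem sg_tab : ∀ k < 24, sg k < 24 ∧ [2, 3, 0, 1, 5, 4, 7, 6, 10, 11, 8, 9].getD (k / 2) 0 = sg k / 2 ∧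
    sg k % 2 = k % 2 ∧ sg (sg k) = k ∧ sg (iv k) = iv (sg k) ∧
    ([1, 1, 3, 3, 3, 1, 1, 3, 3, 3, 1, 1].getD (k / 2) 0 = 1 ∨
      [1, 1, 3, 3, 3, 1, 1, 3, 3, 3, 1, 1].getD (k / 2) 0 = 3) := by decide +kernel

theorem exists_gamma : ∃ α : MulAut ↥Gp, (∀ w, α (ev y w) = ev y (gam w)) ∧ ∀ g : ↥Gp, α ≠ MulAut.conj g := by
  obtain ⟨α, hα⟩ : ∃ α : MulAut ↥Gp, ∀ (g : ↥Gp) (r : ℕ) (t : ZMod 3), r < 12 →
      ((g : GL I14 (ZMod 3)) : Matrix I14 I14 (ZMod 3)) = chevG2.x (ZMod 3) r t →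
        ((α g : GL I14 (ZMod 3)) : Matrix I14 I14 (ZMod 3)) =
          chevG2.x (ZMod 3) ([2, 3, 0, 1, 5, 4, 7, 6, 10, 11, 8, 9].getD r 0)
            (t ^ [1, 1, 3, 3, 3, 1, 1, 3, 3, 3, 1, 1].getD r 0) :=
    Cfsg.Agent.ChevalleyStructure.GraphG2.exists_graph (K := ZMod 3) (by decide)
  have key : ∀ k, α (y k) = y (sg k) := by
    intro k
    rcases Nat.lt_or_ge k 24 with h | h
    · obtain ⟨t1, t2, t3, -, -, t4⟩ := sg_tab k h
      have h1 := hα (y k) (k / 2) _ (by omega) (y_val h)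
      apply Subtype.ext
      apply Units.ext
      rw [h1, y_val t1, t2, t3]
      congr 1
      have h3 : ∀ t : ZMod 3, t ^ 1 = t ∧ t ^ 3 = t := by decide
      rcases t4 with e | e
      · rw [e]; exact (h3 _).1
      · rw [e]; exact (h3 _).2
    · have h1 : y k = 1 := Subtype.ext (by show θ (X k) = 1; rw [X_big h, map_one])
      have h2 : sg k = k := List.getD_eq_default _ _ (by exact h)
      rw [h2, h1, map_one]
  refine ⟨α, fun w => ?_, fun g => outer_of α (perm_of α hα) g⟩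
  induction w with
  | nil => exact map_one α
  | cons k w ih =>
    rw [ev_cons, map_mul, ih, key]
    exact (ev_cons y (sg k) (gam w)).symm

/-- the graph automorphism -/
noncomputable def γ : MulAut ↥Gp := exists_gamma.choose

theorem γ_ev (w : List ℕ) : γ (ev y w) = ev y (gam w) := exists_gamma.choose_spec.1 w

/-- the graph automorphism is outer -/
theorem γ_outer (g : ↥Gp) : γ ≠ MulAut.conj g := exists_gamma.choose_spec.2 g

theorem gam_gam (w : List ℕ) : gam (gam w) = w := by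
  have h : ∀ k, sg (sg k) = k := by
    intro k
    rcases Nat.lt_or_ge k 24 with h | h
    · exact (sg_tab k h).2.2.2.1
    · have h2 : sg k = k := List.getD_eq_default _ _ (by exact h)
      rw [h2, h2]
  unfold gam
  rw [List.map_map]
  conv_rhs => rw [← List.map_id w]
  apply List.map_congr_left
  intro k _
  exact h k

theorem γ_γ (g : ↥Gp) : γ (γ g) = g := by
  have hev : ∀ w, ev y w ∈ ({
      carrier := {g | γ (γ g) = g}
      one_mem' := by simp only [_root_.Set.mem_ofPred_eq, _root_.map_one]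
      mul_mem' := by
        intro a b ha hb
        change γ (γ (a * b)) = a * b
        rw [map_mul, map_mul]
        exact congrArg₂ (· * ·) ha hb
      inv_mem' := by
        intro a ha
        change γ (γ a⁻¹) = a⁻¹
        rw [map_inv, map_inv]
        exact congrArg _ ha } : Subgroup ↥Gp) := by
    intro w
    change γ (γ (ev y w)) = ev y w
    rw [γ_ev, γ_ev, gam_gam]
  have h := eq_top (hev wa) (hev wb) (hev wc) (hev wd) (hev wt)
  exact (h ▸ mem_top g : g ∈ _)

theorem center_Gp : center ↥Gp = ⊥ := by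
  have h := @Cfsg.Agent.H70.OutCount.center_eq_bot chevG2 (ZMod 3) _ hG2
  exact h

theorem card_out : Nat.card (Cfsg.Out ↥Gp) = 2 := by
  have h := @Cfsg.Agent.S2121.result (ZMod 3) _ _ 3 1 _ _ (by rfl) (by norm_num)
  rw [if_pos rfl] at h
  exact h

end Cfsg.Agent.H96.Rad2.G23
end

-- part: H96/Rad2/GTwoThree
section
prune_inst 0x2000000000100000000000200000400000000200400000000001000000004000000001080000000000080000000000001000000000000020000000000000000000208000000000000000002001100000000000000000000000000000000000000000000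
set_option linter.all false
open scoped Cfsg.Agent.FastGrp

-- part: H96/Rad2/OutTwo
section
/-!
# Automorphisms of order two of a group with `|Out| = 2` (helper96, for S3832, S4336)

`S` a Sylow 2-subgroup, `c` an outer automorphism with `c² = 1` and `c S ≤ S`: every automorphism of order two is
conjugate in `Aut(G)` to `conj s` or `conj s * c` with `s ∈ S`.
-/

set_option autoImplicit false

namespace Cfsg.Agent.H96.Rad2.OutTwo

open scoped Pointwise
open Subgroup Cfsg.Agent.H459.Rad Cfsg.Agent.H483.Rad23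

variable {G : Type*} [Group G]

theorem mul_conj (φ : MulAut G) (s : G) : φ * MulAut.conj s = MulAut.conj (φ s) * φ := by
  ext g
  show φ (s * g * s⁻¹) = φ s * φ g * (φ s)⁻¹
  rw [map_mul, map_mul, map_inv]

/-- the extension of `S` by `c` -/
def T (S : Subgroup G) (c : MulAut G) (hc : ∀ s ∈ S, c s ∈ S) (hcc : c * c = 1) : Subgroup (MulAut G) where
  carrier := {φ | ∃ s ∈ S, φ = MulAut.conj s ∨ φ = MulAut.conj s * c}
  one_mem' := ⟨1, one_mem _, Or.inl (map_one _).symm⟩
  mul_mem' := by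
    rintro _ _ ⟨s, hs, rfl | rfl⟩ ⟨t, ht, rfl | rfl⟩
    · exact ⟨s * t, mul_mem hs ht, Or.inl (map_mul _ _ _).symm⟩
    · exact ⟨s * t, mul_mem hs ht, Or.inr (by rw [map_mul, mul_assoc])⟩
    · exact ⟨s * c t, mul_mem hs (hc _ ht), Or.inr (by rw [map_mul, mul_assoc, mul_conj, mul_assoc])⟩
    · exact ⟨s * c t, mul_mem hs (hc _ ht), Or.inl (by
        rw [map_mul, mul_assoc, ← mul_assoc c, mul_conj, mul_assoc, hcc, mul_one])⟩
  inv_mem' := by
    rintro _ ⟨s, hs, rfl | rfl⟩
    · exact ⟨s⁻¹, inv_mem hs, Or.inl (map_inv _ _).symm⟩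
    · refine ⟨c s⁻¹, hc _ (inv_mem hs), Or.inr ?_⟩
      rw [← mul_conj, mul_inv_rev, map_inv, inv_eq_of_mul_eq_one_left hcc]

section

variable [Finite G] {S : Subgroup G} {c : MulAut G} (hc : ∀ s ∈ S, c s ∈ S) (hcc : c * c = 1)

include hc hcc

theorem exists_conj {k m : ℕ} (hZ : center G = ⊥) (hout : Nat.card (Cfsg.Out G) = 2)
    (hno : ∀ g : G, c ≠ MulAut.conj g) (hS : Nat.card S = 2 ^ k) (hG : Nat.card G = 2 ^ k * m) (hm : ¬ 2 ∣ m)
    {x : MulAut G} (hx : orderOf x = 2) :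
    ∃ e : MulAut G, ∃ s ∈ S, e * x * e⁻¹ = MulAut.conj s ∨ e * x * e⁻¹ = MulAut.conj s * c := by
  have : Fact (Nat.Prime 2) := ⟨Nat.prime_two⟩
  have hfin : Finite (MulAut G) := Finite.of_injective (fun φ : MulAut G => (φ : G → G)) DFunLike.coe_injective
  have conj_inj : Function.Injective (MulAut.conj : G →* MulAut G) := H839.Rad.conj_injective hZ
  have card_A : Nat.card (MulAut G) = 2 ^ (k + 1) * m := by
    have h2 := ((MulAut.conj : G →* MulAut G).range).card_mul_index
    have h3 : Nat.card ↥((MulAut.conj : G →* MulAut G).range) = 2 ^ k * m := by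
      rw [← hG]
      exact (Nat.card_congr (MonoidHom.ofInjective conj_inj).toEquiv).symm
    have h4 : ((MulAut.conj : G →* MulAut G).range).index = 2 := hout
    rw [← h2, h3, h4]
    ring
  have hle : S.map (MulAut.conj : G →* MulAut G) ≤ T S c hc hcc := by
    rintro _ ⟨s, hs, rfl⟩
    exact ⟨s, hs, Or.inl rfl⟩
  have h1 : Nat.card ↥(S.map (MulAut.conj : G →* MulAut G)) = Nat.card S :=
    (Nat.card_congr (S.equivMapOfInjective _ conj_inj).toEquiv).symm
  have card_T : Nat.card ↥(T S c hc hcc) = 2 ^ (k + 1) := by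
    have h3 : 2 ^ k ∣ Nat.card ↥(T S c hc hcc) := by
      rw [← hS, ← h1]
      exact Subgroup.card_dvd_of_le hle
    have h4 : Nat.card ↥(T S c hc hcc) ≤ 2 ^ k * 2 := by
      have hs : Function.Surjective (fun p : S × Bool => (⟨cond p.2 (MulAut.conj (p.1 : G) * c)
          (MulAut.conj (p.1 : G)), by
            rcases hb : p.2 with _ | _
            · exact ⟨p.1, p.1.2, Or.inl rfl⟩
            · exact ⟨p.1, p.1.2, Or.inr rfl⟩⟩ : ↥(T S c hc hcc))) := by
        rintro ⟨_, s, hs, rfl | rfl⟩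
        · exact ⟨(⟨s, hs⟩, false), rfl⟩
        · exact ⟨(⟨s, hs⟩, true), rfl⟩
      have h5 := Nat.card_le_card_of_surjective _ hs
      rw [Nat.card_prod, hS, Nat.card_eq_fintype_card (α := Bool), Fintype.card_bool] at h5
      exact h5
    have h5 : Nat.card ↥(T S c hc hcc) ≠ 2 ^ k := by
      intro h
      have h6 : S.map (MulAut.conj : G →* MulAut G) = T S c hc hcc :=
        Subgroup.eq_of_le_of_card_ge hle (by rw [h, h1, hS])
      have h7 : c ∈ T S c hc hcc := ⟨1, one_mem _, Or.inr (by rw [map_one, one_mul])⟩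
      rw [← h6] at h7
      obtain ⟨s, -, hs⟩ := h7
      exact hno s hs.symm
    have h6 : 0 < Nat.card ↥(T S c hc hcc) := Nat.card_pos
    obtain ⟨j, hj⟩ := h3
    rw [hj] at h4 h5 h6 ⊢
    have h7 : 0 < 2 ^ k := by positivity
    have h8 : j ≤ 2 := Nat.le_of_mul_le_mul_left h4 h7
    have h9 : j ≠ 1 := fun h => h5 (by rw [h, mul_one])
    have h10 : j ≠ 0 := fun h => by rw [h, mul_zero] at h6; exact lt_irrefl _ h6
    have : j = 2 := by omega
    rw [this, pow_succ]
  have hP : IsPGroup 2 ↥(T S c hc hcc) := IsPGroup.of_card card_T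
  have hidx : ¬ 2 ∣ (T S c hc hcc).index := by
    have h1 := (T S c hc hcc).card_mul_index
    rw [card_T, card_A] at h1
    rwa [Nat.eq_of_mul_eq_mul_left (by positivity) h1]
  let P : Sylow 2 (MulAut G) := hP.toSylow hidx
  have hz : IsPGroup 2 ↥(zpowers x) := IsPGroup.of_card (n := 1) (by rw [Nat.card_zpowers, hx, pow_one])
  obtain ⟨P', hP'⟩ := hz.exists_le_sylow
  obtain ⟨g, hg⟩ := MulAction.exists_smul_eq (MulAut G) P' P
  have h1 : g * x * g⁻¹ ∈ (P : Subgroup (MulAut G)) := by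
    rw [← hg, Sylow.coe_subgroup_smul]
    exact smul_mem_pointwise_smul x (MulAut.conj g) _ (hP' (mem_zpowers x))
  obtain ⟨s, hs, h2⟩ : g * x * g⁻¹ ∈ T S c hc hcc := h1
  exact ⟨g, s, hs, h2⟩

/-- **the row of a group with `|Out| = 2`** -/
theorem row {k m : ℕ} (hZ : center G = ⊥) (hout : Nat.card (Cfsg.Out G) = 2)
    (hno : ∀ g : G, c ≠ MulAut.conj g) (hS : Nat.card S = 2 ^ k) (hG : Nat.card G = 2 ^ k * m) (hm : ¬ 2 ∣ m)
    (hin : ∀ s ∈ S, orderOf s = 2 → RC (MulAut.conj s) → PS 4 (MulAut.conj s) → TT (MulAut.conj s) → False)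
    (hex : ∀ s ∈ S, s * c s = 1 → RC (MulAut.conj s * c) → PS 4 (MulAut.conj s * c) → TT (MulAut.conj s * c) → False) :
    Row23 2 G := by
  intro x hx hR hP hT
  obtain ⟨e, s, hs, he⟩ := exists_conj hc hcc hZ hout hno hS hG hm hx
  have conj_inj : Function.Injective (MulAut.conj : G →* MulAut G) := H839.Rad.conj_injective hZ
  have h1 : H459.Rad.tr e x = e * x * e⁻¹ := rfl
  have hT1 : TT (e * x * e⁻¹) := h1 ▸ hT.tr e
  have hR1 : RC (e * x * e⁻¹) := h1 ▸ hR.tr e
  have hP1 : PS 4 (e * x * e⁻¹) := h1 ▸ hP.tr e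
  have ho : orderOf (e * x * e⁻¹) = 2 := by rw [← h1, orderOf_tr, hx]
  have hsq : (e * x * e⁻¹) * (e * x * e⁻¹) = 1 := by
    have := pow_orderOf_eq_one (e * x * e⁻¹)
    rwa [ho, pow_two] at this
  rcases he with he | he
  · rw [he] at hT1 ho hR1 hP1
    rw [orderOf_injective _ conj_inj] at ho
    exact hin s hs ho hR1 hP1 hT1
  · rw [he] at hT1 hsq hR1 hP1
    refine hex s hs (conj_inj ?_) hR1 hP1 hT1
    rw [map_mul, map_one, ← hsq, mul_assoc, ← mul_assoc c, mul_conj c, mul_assoc _ c c, hcc, mul_one]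

end

variable [Finite G] {c : MulAut G}

/-- the commutator of `conj s * c` and `b` -/
theorem false_of_comm {s b u : G} (hZ : center G = ⊥) (hT : TT (MulAut.conj s * c)) {l : ℕ} (hl : l.Prime) (h5 : 5 ≤ l)
    (hu : u = s * c b * s⁻¹ * b⁻¹) (ho : orderOf u = l) : False :=
  hT.not_dvd hZ hl h5 b (dvd_of_eq (by rw [← ho, hu]; rfl))

theorem false_of_comm_inn {s b u : G} (hZ : center G = ⊥) (hT : TT (MulAut.conj s)) {l : ℕ} (hl : l.Prime) (h5 : 5 ≤ l)
    (hu : u = s * b * s⁻¹ * b⁻¹) (ho : orderOf u = l) : False :=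
  hT.not_dvd hZ hl h5 b (dvd_of_eq (by rw [← ho, hu]; rfl))

end Cfsg.Agent.H96.Rad2.OutTwo
end

-- part: H96/Rad2/GTwoThree
section
/-!
# Automorphisms of order two of `G₂(3)` (helper96, for S3832, S4336)

`γ₁ = conj a ∘ γ` normalises the Sylow 2-subgroup `PS 5` and has order two. An automorphism of order two is conjugate in
`Aut(G₂(3))` to an element of `⟨PS 5, γ₁⟩`, hence to `conj z` or to `conj s ∘ γ₁`, `s` one of eight elements; each of
them has a commutator of order 7 or 13.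
-/

set_option autoImplicit false
set_option Elab.async false
set_option maxRecDepth 100000

namespace Cfsg.Agent.H96.Rad2.G23

open scoped Pointwise
open Subgroup Cfsg.Lie Cfsg.Agent.H459.Rad Cfsg.Agent.H483.Rad23
open Cfsg.Agent.GTwoThree.Model
open Cfsg.Agent.OddHalf.Small.G23Data Cfsg.Agent.OddHalf.Small.G23Check Cfsg.Agent.OddHalf.Small.G23

attribute [local irreducible] Cfsg.Agent.GTwoThree.Model.ev Cfsg.Agent.GTwoThree.Model.y

/-! ### The automorphism `γ₁` normalising the Sylow 2-subgroup -/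

/-- the word of `a` -/
def wA : List ℕ := [12, 11, 12, 2, 21, 2]

/-- `γ₁` on words -/
def g1 (w : List ℕ) : List ℕ := wA ++ (gam w ++ iw wA)

theorem y_iv : ∀ k < 24, eqc [iv k, k] [] = true := by decide +kernel

theorem ev_iw {w : List ℕ} (hw : ∀ k ∈ w, k < 24) : ev y (iw w) = (ev y w)⁻¹ := by
  induction w with
  | nil => rw [ev_nil, inv_one]; exact ev_nil y
  | cons k w ih =>
    have h1 := eq_of_eqc (y_iv k (hw k (List.mem_cons_self ..)))
    simp only [ev_cons, ev_nil, mul_one] at h1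
    have h2 : iw (k :: w) = iw w ++ [iv k] := by
      unfold iw
      rw [List.map_cons, List.reverse_cons]
    rw [h2, ev_append, ih fun j hj => hw j (List.mem_cons_of_mem _ hj), ev_cons, ev_cons, ev_nil, mul_one, mul_inv_rev,
      eq_inv_of_mul_eq_one_left h1]

/-- the second automorphism -/
noncomputable def γ1 : MulAut ↥Gp := MulAut.conj (ev y wA) * γ

theorem γ1_apply (g : ↥Gp) : γ1 g = ev y wA * γ g * (ev y wA)⁻¹ := rfl

theorem γ1_ev (w : List ℕ) : γ1 (ev y w) = ev y (g1 w) := by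
  rw [γ1_apply, γ_ev, ← ev_iw (by decide), g1, ev_append, ev_append, mul_assoc]

theorem a_check : eqc (wA ++ gam wA) [] = true := by decide +kernel

theorem γ1_γ1 (g : ↥Gp) : γ1 (γ1 g) = g := by
  have h1 := eq_of_eqc a_check
  rw [ev_append, ← γ_ev, ev_nil] at h1
  have h2 : γ (ev y wA) = (ev y wA)⁻¹ := eq_inv_of_mul_eq_one_right h1
  rw [γ1_apply, γ1_apply, map_mul, map_mul, map_inv, γ_γ, h2]
  group

theorem γ1_mul_self : γ1 * γ1 = 1 := by
  ext g
  show ((γ1 (γ1 g) : ↥Gp) : GL I14 (ZMod 3)) _ _ = _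
  rw [γ1_γ1]
  rfl

theorem γ1_outer (g : ↥Gp) : γ1 ≠ MulAut.conj g := by
  intro h
  apply γ_outer ((ev y wA)⁻¹ * g)
  rw [map_mul, ← h, γ1, map_inv, inv_mul_cancel_left]

/-- images of the generators of the Sylow subgroup -/
def ST : List ℕ := [16, 13, 14, 9, 37]

theorem S_check : ∀ k < 5, ST.getD k 0 < 64 ∧ eqc (g1 (PG.getD k [])) (ex (PW.getD (ST.getD k 0) [])) = true := by
  decide +kernel

theorem γ1_mem {s : ↥Gp} (hs : s ∈ PS 5) : γ1 s ∈ PS 5 := by
  have h : PS 5 ≤ (PS 5).comap γ1.toMonoidHom := by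
    refine (Subgroup.closure_le _).2 ?_
    rintro _ ⟨k, hk, rfl⟩
    obtain ⟨h1, h2⟩ := S_check k hk
    have h3 : γ1 (ev y (PG.getD k [])) = ev y (ex (PW.getD (ST.getD k 0) [])) := (γ1_ev _).trans (eq_of_eqc h2)
    have h4 : ev y (ex (PW.getD (ST.getD k 0) [])) ∈ PS 5 := ex_mem (m := 5) _ (PW_lt _ h1)
    rw [SetLike.mem_coe, Subgroup.mem_comap, MulEquiv.coe_toMonoidHom, h3]
    exact h4
  have h6 := h hs
  rwa [Subgroup.mem_comap, MulEquiv.coe_toMonoidHom] at h6

theorem card_PS : Nat.card ↥(PS 5) = 2 ^ 6 := by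
  refine le_antisymm ?_ card_P
  have hf : Function.Injective (fun s : ↥(PS 5) => (⟨(exists_P s.2).choose, (exists_P s.2).choose_spec.1⟩ : Fin 64)) := by
    intro s t h
    have h3 := (exists_P s.2).choose_spec.2
    have h4 := (exists_P t.2).choose_spec.2
    have h5 : (exists_P s.2).choose = (exists_P t.2).choose := congrArg Fin.val h
    apply Subtype.ext
    rw [h3, h4, h5]
  simpa only [_root_.Nat.reducePow, _root_.ge_iff_le, _root_.Nat.card_eq_fintype_card, _root_.Fintype.card_fin] using Nat.card_le_card_of_injective _ hf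

/-! ### The checks -/

/-- the test elements -/
def BT (i : ℕ) : List ℕ :=
  if i = 0 ∨ i = 19 ∨ i = 24 then [0, 7] else if i = 5 ∨ i = 23 ∨ i = 25 then [0, 6] else [0, 8]

/-- the commutator `x(b) b⁻¹`, `x = conj s ∘ γ₁` -/
def uW (s b : List ℕ) : List ℕ := s ++ (g1 b ++ (iw s ++ iw b))

/-- the seventh power of a word -/
def sev (u : List ℕ) : List ℕ := u ++ (u ++ (u ++ (u ++ (u ++ (u ++ u)))))

/-- one check -/
noncomputable def ck (i : ℕ) : Bool :=
  nec (ex (PW.getD i []) ++ g1 (ex (PW.getD i []))) [] ||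
    (eqc (sev (uW (ex (PW.getD i [])) (BT i))) [] && nec (uW (ex (PW.getD i [])) (BT i)) [])

private theorem gA : Lib.PackMat.checkEq GTwoThree.ModelData.C3 = Lib.PackAll.aEq GTwoThree.ModelData.C3 :=
  Lib.PackAll.checkEq_fun (by decide +kernel)

theorem T_check : ∀ i < 64, ck i = true := by
  delta ck eqc nec rr
  rewrite [gA, Lib.PackAll.runK_fun]
  decide +kernel

theorem PW_let : ∀ i < 64, ∀ k ∈ ex (PW.getD i []), k < 24 := by decide +kernel

theorem BT_let (i : ℕ) : ∀ k ∈ BT i, k < 24 := by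
  unfold BT
  split_ifs <;> decide

theorem order_seven {u : List ℕ} (h1 : eqc (sev u) [] = true) (h2 : nec u [] = true) : orderOf (ev y u) = 7 := by
  have : Fact (Nat.Prime 7) := ⟨by norm_num⟩
  refine orderOf_eq_prime ?_ (by rw [← ev_nil y]; exact ne_of_nec h2)
  have h := eq_of_eqc h1
  simp only [sev, ev_append, ev_nil] at h
  rw [← h]
  simp only [pow_succ, pow_zero, one_mul, mul_assoc]

theorem eq_u (i : ℕ) (hi : i < 64) : ev y (uW (ex (PW.getD i [])) (BT i)) =
    ev y (ex (PW.getD i [])) * γ1 (ev y (BT i)) * (ev y (ex (PW.getD i [])))⁻¹ * (ev y (BT i))⁻¹ := by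
  rw [γ1_ev, ← ev_iw (BT_let i), uW, ev_append, ev_append, ev_append, ev_iw (PW_let i hi)]
  simp only [mul_assoc]

theorem false_of_outer {i : ℕ} (hi : i < 64) (h1 : ev y (ex (PW.getD i [])) * γ1 (ev y (ex (PW.getD i []))) = 1)
    (hT : TT (MulAut.conj (ev y (ex (PW.getD i []))) * γ1)) : False := by
  have hc := T_check i hi
  unfold ck at hc
  rw [Bool.or_eq_true, Bool.and_eq_true] at hc
  rcases hc with hc | ⟨hc1, hc2⟩
  · apply ne_of_nec hc
    rw [ev_append, ← γ1_ev, ev_nil]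
    exact h1
  · exact OutTwo.false_of_comm center_Gp hT (l := 7) (by norm_num) (by norm_num) (eq_u i hi) (order_seven hc1 hc2)

/-- the commutator of the involution `z` -/
def uZ : List ℕ := wz ++ ([0, 8, 20] ++ (iw wz ++ iw [0, 8, 20]))

theorem z_check : eqc (uZ ++ (uZ ++ (uZ ++ (uZ ++ (uZ ++ (uZ ++ (uZ ++ (uZ ++ (uZ ++ (uZ ++ (uZ ++ (uZ ++ uZ))))))))))))
    [] = true := by decide +kernel

theorem z_ne : nec uZ [] = true := by decide +kernel

theorem order_z : orderOf (ev y uZ) = 13 := by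
  have : Fact (Nat.Prime 13) := ⟨by norm_num⟩
  refine orderOf_eq_prime ?_ (by rw [← ev_nil y]; exact ne_of_nec z_ne)
  have h := eq_of_eqc z_check
  simp only [ev_append, ev_nil] at h
  rw [← h]
  simp only [pow_succ, pow_zero, one_mul, mul_assoc]

theorem eq_uZ : ev y uZ = ev y wz * ev y [0, 8, 20] * (ev y wz)⁻¹ * (ev y [0, 8, 20])⁻¹ := by
  rw [← ev_iw (w := [0, 8, 20]) (by decide), uZ, ev_append, ev_append, ev_append, ev_iw (w := wz) (by decide)]
  simp only [mul_assoc]

theorem false_of_z (hT : TT (MulAut.conj (ev y wz))) : False :=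
  OutTwo.false_of_comm_inn center_Gp hT (l := 13) (by norm_num) (by norm_num) eq_uZ order_z

/-- **the row of `G₂(3)`** -/
theorem row_Gp : Row23 2 ↥Gp := by
  refine OutTwo.row (S := _root_.Cfsg.Agent.OddHalf.Small.G23.PS 5) (c := γ1) (fun s hs => γ1_mem hs) γ1_mul_self center_Gp card_out γ1_outer card_PS card_G
    (by norm_num) ?_ ?_
  · intro s _ ho _ _ hT
    obtain ⟨c, hc⟩ := exists_conj ho
    refine false_of_z ?_
    have h1 := tt_conj hT c
    rw [hc] at h1
    exact h1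
  · intro s hs h1 _ _ hT
    obtain ⟨i, hi, rfl⟩ := exists_P hs
    exact false_of_outer hi h1 hT

end Cfsg.Agent.H96.Rad2.G23

namespace Cfsg.Agent.H96.Rad2

open Cfsg.Agent.H483.Rad23

theorem row2_g23 {K : Type*} [Group K] [Finite K] [IsSimpleGroup K] {F : Type} [Field F] [Fintype F]
    (hF : Fintype.card F = 3) (e : Nonempty (K ≃* ↥(Cfsg.Lie.chevG2.group F))) :
    Cfsg.Agent.H483.Rad23.Row23 2 K := by
  obtain ⟨e⟩ := e
  have h3 : Fintype.card (ZMod 3) = Fintype.card F := by rw [hF]; rfl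
  let φ : ZMod 3 ≃+* F := FiniteField.ringEquivOfCardEq h3
  exact Row23.congr (by exact e.trans (Cfsg.Agent.ChevalleyStructure.FieldIso.groupEquiv Cfsg.Lie.chevG2 φ).symm)
    Cfsg.Agent.H96.Rad2.G23.row_Gp

end Cfsg.Agent.H96.Rad2
end

private theorem dce_6b8abdcd7620 : _root_.True := by
  try have : _root_.True := by simp only [_root_.Cfsg.Agent.H96.Rad2.G23.uZ.eq_1]
  try have : _root_.True := by simp only [_root_.Cfsg.Agent.H96.Rad2.G23.g1.eq_1]
  try have : _root_.True := by simp only [_root_.Cfsg.Agent.H96.Rad2.G23.sev.eq_1]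
  try have : _root_.True := by simp only [_root_.Cfsg.Agent.H96.Rad2.G23.γ1.eq_1]
  try have : _root_.True := by simp only [_root_.Cfsg.Agent.H96.Rad2.G23.uW.eq_1]
  exact _root_.True.intro
end
end
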